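import Cfsg.Agent.H17.ThQ
import Cfsg.Agent.H14.Loop

/-! Packed matrices of degree 24 for the elements of the centraliser of `a` in the Thompson group. -/

set_option autoImplicit false
set_option maxRecDepth 100000
set_option exponentiation.threshold 400000

namespace Cfsg.Agent.TH

open H58 H17 H17.ThP H17.ThF H17.ThU H17.ThQ Matrix

/-- a word in the model of the centraliser -/
noncomputable def dw (w : List ℕ) : D1 := wv M1.el w

theorem dw_nil : dw [] = 1 := rfl

theorem dw_cons (x : ℕ) (w : List ℕ) : dw (x :: w) = M1.el x * dw w := by simp [dw, wv]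

theorem dw_one (x : ℕ) : dw [x] = M1.el x := by simp [dw, wv]

theorem dw_append (v w : List ℕ) : dw (v ++ w) = dw v * dw w := wv_append _ _ _

theorem χ_inj : Function.Injective χ1 := Lχ.inj (cle1.2.trans cge1)

theorem χ_el (x : ℕ) : (χ1 (M1.el x) : Matrix (Fin 24) (Fin 24) (ZMod 2)) = lmat ThC.E ThC.mats x := by
  by_cases hx : x ∈ g1
  · rw [Lχ.hψ x hx]; exact glOf_val (ThC.rule.1.2 x)
  · have e : χ1 (M1.el x) = 1 := by
      show (cutEl em g1 x).2 = 1
      rw [cutEl, if_neg hx]; rfl
    rw [e]
    rcases Nat.lt_or_ge x 13 with h | h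
    · have : x = 0 ∨ x = 2 := by
        clear e; revert hx; interval_cases x <;> decide
      rcases this with rfl | rfl
      · show _ = rmat _ _ _ []
        simp [rmat]
      · show _ = rmat _ _ _ []
        simp [rmat]
    · exact Units.val_one.trans (lmat_of_le ThC.E (show ThC.mats.length ≤ x from h)).symm

def M0 : ℕ := nat_lit 0x1000000000000000000000000000001000000000000000000000000000001000000000000000000000000000001000000000000000000000000000001000000000000000000000000000001000000000000000000000000000001000000000000000000000000000001000000000000000000000000000001000000000000000000000000000001000000000000000000000000000001000000000000000000000000000001000000000000000000000000000001000000000000000000000000000001000000000000000000000000000001000000000000000000000000000001000000000000000000000000000001000000000000000000000000000001000000000000000000000000000001000000000000000000000000000001000000000000000000000000000001000000000000000000000000000001000000000000000000000000000001000000000000000000000000000001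
def MT : ℕ := nat_lit 0x84210842108421084210842108421084210842108421084210842108421084210842108421084210842108421084210842108421084210842108421084210842108421084210842108421084210842108421084210842108421084210842108421084210842108421084210842108421084210842108421084210842108421084210842108421084210842108421084210842108421084210842108421084210842108421084210842108421084210842108421084210842108421084210842108421084210842108421084210842108421084210842108421084210842108421084210842108421084210842108421084210842108421084210842108421084210842108421084210842108421084210842108421084210842108421084210842108421084210842108421084210842108421084210842108421084210842108421084210842108421084210842108421084210842108421084210842108421084210842108421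
/-- the unit matrix -/
def ID : ℕ := nat_lit 0x80000000000000000000000000000004000000000000000000000000000000200000000000000000000000000000010000000000000000000000000000000800000000000000000000000000000040000000000000000000000000000002000000000000000000000000000000100000000000000000000000000000008000000000000000000000000000000400000000000000000000000000000020000000000000000000000000000001000000000000000000000000000000080000000000000000000000000000004000000000000000000000000000000200000000000000000000000000000010000000000000000000000000000000800000000000000000000000000000040000000000000000000000000000002000000000000000000000000000000100000000000000000000000000000008000000000000000000000000000000400000000000000000000000000000020000000000000000000000000000001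

theorem M0_eq : M0 = ThC.E.M0 24 := by decide +kernel
theorem MT_eq : MT = ThC.E.MT 24 := by decide +kernel
theorem ID_eq : ID = idc ThC.E 24 0 := by decide +kernel

/-- the matrix of a packed number -/
def pm (A : ℕ) : Matrix (Fin 24) (Fin 24) (ZMod 2) := Matrix.of fun r c => (dg 5 A (r * 24 + c) : ZMod 2)

/-- `A` is the packed matrix of `x` -/
structure Rp (x : D1) (A : ℕ) : Prop where
  small : A &&& MT = A
  val : (χ1 x : Matrix (Fin 24) (Fin 24) (ZMod 2)) = pm A

/-- a packed matrix times a list of rows -/
noncomputable def stp (rows : List ℕ) (A : ℕ) : ℕ :=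
  List.rec (motive := fun _ => ℕ) A (fun _ _ _ => Nat.land (raw M0 5 rows A) MT) rows

/-- the rows of a packed matrix -/
def rows (B : ℕ) : List ℕ := [dg 120 B 0, dg 120 B 1, dg 120 B 2, dg 120 B 3, dg 120 B 4, dg 120 B 5,
  dg 120 B 6, dg 120 B 7, dg 120 B 8, dg 120 B 9, dg 120 B 10, dg 120 B 11, dg 120 B 12, dg 120 B 13,
  dg 120 B 14, dg 120 B 15, dg 120 B 16, dg 120 B 17, dg 120 B 18, dg 120 B 19, dg 120 B 20, dg 120 B 21,
  dg 120 B 22, dg 120 B 23]

/-- the product of packed matrices -/
noncomputable def mu (A B : ℕ) : ℕ := frcN (fun b => frcN (fun a => Nat.land (raw M0 5 (rows b) a) MT) A) B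

/-- a packed matrix times a word -/
noncomputable def go (w : List ℕ) : ℕ → ℕ :=
  List.rec (motive := fun _ => ℕ → ℕ) (fun A => A)
    (fun x _ ih A => frcN ih (stp (getW ThC.mats x) A)) w

/-- the packed matrix of a word -/
noncomputable def pw (w : List ℕ) : ℕ := go w ID

theorem dg_MT (i : ℕ) : dg 5 MT i = if i < 576 then 1 else 0 := by
  rw [MT_eq]
  exact dg_rp_mul (w := 5) (v := 1) (by decide) (by decide) 576 i

theorem land_small (A : ℕ) : (A &&& MT) &&& MT = A &&& MT := by rw [Nat.and_assoc, Nat.and_self]

theorem small_bd {A : ℕ} (h : A &&& MT = A) : Bd ThC.E A := by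
  rw [← h, MT_eq]; exact bd_and (by decide) 24 A

theorem pm_raw {rs : List ℕ} (h1 : rs.length = 24) (h2 : ∀ r ∈ rs, r &&& ThC.E.MT 1 = r) {A : ℕ}
    (hA : A &&& MT = A) : pm (raw M0 5 rs A &&& MT) =
      pm A * Matrix.of fun (k c : Fin 24) => (dg 5 (rs.getD k 0) c : ZMod 2) := by
  ext r c
  have h3 := (dg_raw (E := ThC.E) (by decide) (m := 24) rs h1.le h2 A (small_bd hA) r c c.2).2 r.2
  rw [← M0_eq, h1, Finset.sum_range] at h3
  have h4 : (r : ℕ) * 24 + c < 576 := by omega
  simp only [pm, of_apply, mul_apply]
  rw [dg_and, dg_MT, if_pos h4, Nat.and_one_is_mod, ZMod.natCast_mod]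
  exact (congrArg Nat.cast h3).trans (by push_cast; rfl)

theorem Rp.one : Rp 1 ID := by
  refine ⟨by decide +kernel, ?_⟩
  rw [map_one]
  ext r c
  have := congrFun (vec_idc (E := ThC.E) (by decide) ThC.b0 r (by decide)
    (Nat.div_eq_of_lt r.2)) c
  rw [Nat.mod_eq_of_lt r.2, ← ID_eq] at this
  exact (by simp [one_apply, Pi.single_apply, eq_comm] : _ = (Pi.single r 1 : Fin 24 → ZMod 2) c).trans
    this.symm

theorem Rp.step {x : D1} {A : ℕ} (h : Rp x A) (y : ℕ) :
    Rp (x * M1.el y) (stp (getW ThC.mats y) A) := by
  have h1 := ThC.matsOK.2 y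
  have h2 := χ_el y
  rw [lmat] at h2
  generalize getW ThC.mats y = rs at h1 h2
  cases rs with
  | nil => exact ⟨h.small, by rw [map_mul, Units.val_mul, h2, h.val, rmat, if_pos rfl, mul_one]; rfl⟩
  | cons r rs =>
    have h3 : band (Nat.beq (r :: rs).length 24)
      (allA (r :: rs) fun r => Nat.beq (Nat.land r (ThC.E.MT 1)) r) = true := h1
    rw [band_iff, Nat.beq_eq] at h3
    refine ⟨land_small _, ?_⟩
    rw [map_mul, Units.val_mul, h2, h.val, rmat, if_neg (by simp)]
    exact (pm_raw h3.1 (fun q hq => Nat.eq_of_beq_eq_true (allA_spec h3.2 q hq)) h.small).symm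

theorem rows_eq (B : ℕ) : rows B = (List.range 24).map (dg 120 B) := rfl

theorem Rp.mul {x y : D1} {A B : ℕ} (h : Rp x A) (h' : Rp y B) : Rp (x * y) (mu A B) := by
  rw [mu, frcN_eq, frcN_eq]
  refine ⟨land_small _, ?_⟩
  have k : ∀ r c, c < 24 → dg 5 (dg 120 B r) c = dg 5 B (r * 24 + c) := fun r c hc =>
    (dg_nest 5 24 B r hc).symm
  rw [map_mul, Units.val_mul, h.val, h'.val]
  refine Eq.trans ?_ (pm_raw (rs := rows B) rfl (fun q hq => ?_) h.small).symm
  · congr 1
    ext r c
    simp only [pm, of_apply, rows_eq]
    rw [List.getD_eq_getElem _ _ (by simp), List.getElem_map, List.getElem_range, k _ _ c.2]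
  · rw [rows_eq] at hq
    obtain ⟨r, -, rfl⟩ := List.mem_map.1 hq
    refine dg_ext (w := 5) 24 (Nat.and_le_left.trans_lt (dg_lt 120 B r)) (dg_lt 120 B r) fun c hc => ?_
    have e : dg 5 (ThC.E.MT 1) c = 1 :=
      (dg_rp_mul (w := 5) (v := 1) (by decide) (by decide) 24 c).trans (if_pos hc)
    have b : dg 5 B (r * 24 + c) ≤ 1 := small_bd h'.small _
    rw [dg_and, e, k r c hc, Nat.and_one_is_mod]
    omega

theorem Rp.go {x : D1} {A : ℕ} (h : Rp x A) (w : List ℕ) : Rp (x * dw w) (go w A) := by
  induction w generalizing x A with
  | nil => rw [dw_nil, mul_one]; exact h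
  | cons y w ih =>
    rw [dw_cons, ← mul_assoc]
    have e : TH.go (y :: w) A = TH.go w (stp (getW ThC.mats y) A) := frcN_eq _ _
    exact e ▸ ih (h.step y)

theorem rp_w (w : List ℕ) : Rp (dw w) (pw w) := one_mul (dw w) ▸ Rp.one.go w

theorem Rp.eq_iff {x y : D1} {A B : ℕ} (h : Rp x A) (h' : Rp y B) : x = y ↔ A = B := by
  refine ⟨fun e => ?_, fun e => χ_inj (Units.ext (by rw [h.val, h'.val, e]))⟩
  have lt : MT < 2 ^ (5 * 576) := by decide +kernel
  refine dg_ext (w := 5) 576 (h.small ▸ Nat.and_le_right.trans_lt lt)
    (h'.small ▸ Nat.and_le_right.trans_lt lt) fun i hi => ?_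
  have e1 := congrFun (congrFun ((h.val.symm.trans (e ▸ h'.val))) ⟨i / 24, by omega⟩) ⟨i % 24, by omega⟩
  simp only [pm, of_apply, Nat.div_add_mod'] at e1
  have b1 : dg 5 A i ≤ 1 := small_bd h.small _
  have b2 : dg 5 B i ≤ 1 := small_bd h'.small _
  have := (ZMod.natCast_eq_natCast_iff' _ _ _).1 e1
  omega

theorem Rp.eq {x y : D1} {A B : ℕ} (h : Rp x A) (h' : Rp y B) (e : Nat.beq A B = true) : x = y :=
  (h.eq_iff h').2 (Nat.eq_of_beq_eq_true e)

theorem Rp.beq {x y : D1} {A B : ℕ} (h : Rp x A) (h' : Rp y B) (e : x = y) : Nat.beq A B = true :=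
  Nat.beq_eq ▸ (h.eq_iff h').1 e

theorem Rp.ne {x y : D1} {A B : ℕ} (h : Rp x A) (h' : Rp y B) (e : Nat.beq A B = false) : x ≠ y :=
  fun f => by rw [h.beq h' f] at e; exact absurd e (by decide)

/-- equality of words -/
theorem dw_eq (v w : List ℕ) (h : Nat.beq (pw v) (pw w) = true := by decide +kernel) : dw v = dw w :=
  (rp_w v).eq (rp_w w) h

theorem dw_ne (v w : List ℕ) (h : Nat.beq (pw v) (pw w) = false := by decide +kernel) : dw v ≠ dw w :=
  (rp_w v).ne (rp_w w) h

end Cfsg.Agent.TH
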